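import Groth.Agent.CplBranch.Basic
import Groth.Agent.BranchBC.Branches

/-!
# Branches of a local ring and of its completion
-/

set_option autoImplicit false

universe u

open CategoryTheory CategoryTheory.Limits AlgebraicGeometry IsLocalRing
open scoped TensorProduct

namespace Groth.Agent.CplBranch

open BranchBC

/-- Maximal ideals of `A^ ⊗ C` and of `C` correspond. -/
theorem bijective_comap_includeRight {A : Type u} [CommRing A] [IsLocalRing A] (H C : Type u) [CommRing H] [IsLocalRing H]
    [Algebra A H] [IsLocalHom (algebraMap A H)]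
    (hres : ∀ x : H, ∃ a : A, x - algebraMap A H a ∈ maximalIdeal H)
    [CommRing C] [Algebra A C] [Algebra.IsIntegral A C] [Module.FaithfullyFlat A H] :
    ENat.card (MaximalSpectrum (H ⊗[A] C)) = ENat.card (MaximalSpectrum C) := by
  let r : C →ₐ[A] H ⊗[A] C := Algebra.TensorProduct.includeRight
  have key : ∀ z : H ⊗[A] C, ∃ c : C, ∀ N : Ideal (H ⊗[A] C), N.IsMaximal → z - r c ∈ N := by
    intro z
    induction z using TensorProduct.induction_on with
    | zero => exact ⟨0, fun N _ => by simp⟩
    | tmul x c =>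
      obtain ⟨a, ha⟩ := hres x
      refine ⟨a • c, fun N hN => ?_⟩
      have hH : N.comap (algebraMap H (H ⊗[A] C)) = maximalIdeal H :=
        eq_maximalIdeal (Ideal.isMaximal_comap_of_isIntegral_of_isMaximal (R := H) N)
      have h2 := N.mul_mem_right (r c) (hH.ge ha : algebraMap H (H ⊗[A] C) (x - algebraMap A H a) ∈ N)
      convert h2 using 1
      rw [Algebra.TensorProduct.algebraMap_apply, Algebra.algebraMap_self_apply]
      simp only [r, Algebra.TensorProduct.includeRight_apply, Algebra.TensorProduct.tmul_mul_tmul, one_mul, mul_one,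
        TensorProduct.sub_tmul]
      rw [← TensorProduct.smul_tmul, Algebra.algebraMap_eq_smul_one, sub_mul, Algebra.TensorProduct.tmul_mul_tmul,
        Algebra.TensorProduct.tmul_mul_tmul, mul_one, one_mul, mul_one]
    | add z w hz hw =>
      obtain ⟨c, hc⟩ := hz
      obtain ⟨d, hd⟩ := hw
      refine ⟨c + d, fun N hN => ?_⟩
      convert N.add_mem (hc N hN) (hd N hN) using 1
      rw [map_add]; ring
  have hr : ∀ N : Ideal (H ⊗[A] C), N.IsMaximal → (N.comap r.toRingHom).IsMaximal := fun N hN => by
    have hH : N.comap (algebraMap H (H ⊗[A] C)) = maximalIdeal H :=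
      eq_maximalIdeal (Ideal.isMaximal_comap_of_isIntegral_of_isMaximal (R := H) N)
    haveI : (N.comap r.toRingHom).IsPrime := Ideal.IsPrime.comap _
    refine Ideal.isMaximal_of_isIntegral_of_isMaximal_comap (R := A) _ ?_
    rw [Ideal.comap_comap, show r.toRingHom.comp (algebraMap A C) = algebraMap A (H ⊗[A] C) from r.comp_algebraMap,
      IsScalarTower.algebraMap_eq A H (H ⊗[A] C), ← Ideal.comap_comap, hH,
      show (maximalIdeal H).comap (algebraMap A H) = maximalIdeal A from
        congrArg PrimeSpectrum.asIdeal (IsLocalRing.comap_closedPoint (algebraMap A H))]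
    infer_instance
  refine ENat.card_congr (Equiv.ofBijective (fun M => ⟨M.asIdeal.comap r.toRingHom, hr _ M.isMaximal⟩)
    ⟨fun M N h => ?_, fun m => ?_⟩)
  · replace h : M.asIdeal.comap r.toRingHom = N.asIdeal.comap r.toRingHom := congrArg MaximalSpectrum.asIdeal h
    refine MaximalSpectrum.ext (M.isMaximal.eq_of_le N.isMaximal.ne_top fun z hz => ?_)
    obtain ⟨c, hc⟩ := key z
    have hcM : r c ∈ M.asIdeal := by simpa using M.asIdeal.sub_mem hz (hc _ M.isMaximal)
    have hcN : c ∈ N.asIdeal.comap r.toRingHom := h.le hcM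
    simpa using N.asIdeal.add_mem (hc _ N.isMaximal) hcN
  · haveI := m.isMaximal
    haveI : Module.FaithfullyFlat C (C ⊗[A] H) := inferInstance
    obtain ⟨⟨Q, hQ⟩, hQm⟩ := PrimeSpectrum.comap_surjective_of_faithfullyFlat
      (A := C) (B := C ⊗[A] H) ⟨m.asIdeal, m.isMaximal.isPrime⟩
    let e := Algebra.TensorProduct.comm A C H
    let Q' := Q.comap e.symm.toRingEquiv.toRingHom
    have hQ' : Q'.comap r.toRingHom = m.asIdeal := by
      rw [Ideal.comap_comap]
      exact congrArg PrimeSpectrum.asIdeal hQm
    obtain ⟨M, hM, hle⟩ := Q'.exists_le_maximal (Ideal.IsPrime.comap _).ne_top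
    exact ⟨⟨M, hM⟩, MaximalSpectrum.ext (m.isMaximal.eq_of_le (hr M hM).ne_top
      (hQ'.ge.trans (Ideal.comap_mono hle))).symm⟩

variable (A : Type u) [CommRing A] [IsNoetherianRing A] [IsLocalRing A]

theorem numBranches_cpl (hA : EGA4.HasGeomNormalFormalFibres A) :
    Brnch.numBranches (EGA4.Cpl A) = Brnch.numBranches A ∧
      Brnch.numGeomBranches (EGA4.Cpl A) = Brnch.numGeomBranches A := by
  haveI := CohenStruct.isNoetherianRing_completion A
  haveI : Module.FaithfullyFlat A (EGA4.Cpl A) := Module.FaithfullyFlat.of_flat_of_isLocalHom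
  have hfin : (minimalPrimes A).Finite := minimalPrimes.finite_of_isNoetherianRing A
  have hfinH : (minimalPrimes (EGA4.Cpl A)).Finite := minimalPrimes.finite_of_isNoetherianRing _
  let C : CommRingCat.{u} := CommRingCat.of (CAlg2.normRed A)
  letI : Algebra A C := (show A →+* C from ReducedNormalization.toNorm A).toAlgebra
  have hint₀ : (ReducedNormalization.toNorm A).IsIntegral := RingHom.IsIntegral.trans _ _
    (RingHom.isIntegral_of_surjective _ Ideal.Quotient.mk_surjective) (algebraMap_isIntegral_iff.2 inferInstance)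
  haveI : Algebra.IsIntegral A C := ⟨hint₀⟩
  have hnorm : EGA4.IsNormalRing (EGA4.Cpl A ⊗[A] C) :=
    S2670.result A (EGA4.Cpl A) (isNormalHom_cpl A hA) C (isNormalRing_normRed A)
  let AC : CommRingCat.{u} := CommRingCat.of A
  let HC : CommRingCat.{u} := CommRingCat.of (EGA4.Cpl A)
  haveI : IsLocalRing AC := inferInstanceAs (IsLocalRing A)
  haveI : IsLocalRing HC := inferInstanceAs (IsLocalRing (EGA4.Cpl A))
  let ν : Spec C ⟶ Spec AC := Spec.map (CommRingCat.ofHom (algebraMap A C))
  haveI : IsIntegralHom ν := IsIntegralHom.SpecMap_iff.2 hint₀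
  let h : Spec HC ⟶ Spec AC := Spec.map (CommRingCat.ofHom (algebraMap A (EGA4.Cpl A)))
  haveI : Flat h := Flat.SpecMap_iff.2 (RingHom.flat_algebraMap_iff.2 (inferInstance : Module.Flat A (EGA4.Cpl A)))
  let T : CommRingCat.{u} := CommRingCat.of (EGA4.Cpl A ⊗[A] C)
  let φ : HC ⟶ T := CommRingCat.ofHom (algebraMap (EGA4.Cpl A) (EGA4.Cpl A ⊗[A] C))
  have sq : IsPullback (Spec.map (CommRingCat.ofHom
      (Algebra.TensorProduct.includeRight (R := A) (A := EGA4.Cpl A) (B := C)).toRingHom)) (Spec.map φ) ν h :=
    (isPullback_SpecMap_of_isPushout _ _ _ _ (CommRingCat.isPushout_tensorProduct A (EGA4.Cpl A) C)).flip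
  have hGU : ∀ (m : Ideal T) [m.IsPrime], m.comap φ.hom = maximalIdeal HC →
      CAlg2.IsGeomUnibranch (Localization.AtPrime m) := fun m _ _ => by
    haveI := (hnorm m).1
    haveI := (hnorm m).2
    exact S9812.result (Localization.AtPrime m)
  have hb := BiratBC.isBirational_of_isPullback sq (isBirational_toNorm A hfin)
  have hintT : φ.hom.IsIntegral := algebraMap_isIntegral_iff.2 inferInstance
  constructor
  · rw [show Brnch.numBranches (EGA4.Cpl A) = _ from numBranches_eq_card φ hfinH hintT hb hGU]
    refine (bijective_comap_includeRight (A := A) (EGA4.Cpl A) C (residue_cpl A)).trans ?_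
    rw [Brnch.numBranches, if_pos hfin]
  · rw [show Brnch.numGeomBranches (EGA4.Cpl A) = _ from numGeomBranches_eq_card φ hfinH hintT hb hGU,
      Brnch.numGeomBranches, if_pos hfin, ReducedNormalization.card_emb]
    refine ((card_pts_spec (A := HC) (C := T) (L := CommRingCat.of (AlgebraicClosure (ResidueField (EGA4.Cpl A)))) φ
      (Brnch.toClosure (EGA4.Cpl A))).symm.trans ?_).trans
      (card_pts_spec (A := AC) (C := C) (L := CommRingCat.of (AlgebraicClosure (ResidueField A)))
        (CommRingCat.ofHom (ReducedNormalization.toNorm A)) (Brnch.toClosure A))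
    rw [card_pts_of_isPullback sq]
    refine card_pts_congr (Ω := AlgebraicClosure (ResidueField (EGA4.Cpl A))) (Ω' := AlgebraicClosure (ResidueField A))
      ν _ _ ?_
    have hc : ∀ (R : Type u) [CommRing R] [IsLocalRing R],
        (Spec.map (CommRingCat.ofHom (Brnch.toClosure R))) (closedPoint (AlgebraicClosure (ResidueField R))) =
          closedPoint R := fun R _ _ => PrimeSpectrum.ext (by
      change (maximalIdeal (AlgebraicClosure (ResidueField R))).comap (Brnch.toClosure R) = maximalIdeal R
      rw [IsLocalRing.maximalIdeal_eq_bot, ← RingHom.ker_eq_comap_bot, Brnch.toClosure,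
        RingHom.ker_comp_of_injective _ (RingHom.injective _)]
      exact Ideal.mk_ker)
    rw [Scheme.Hom.comp_apply, hc A, hc (EGA4.Cpl A)]
    exact IsLocalRing.comap_closedPoint (algebraMap A (EGA4.Cpl A))

end Groth.Agent.CplBranch
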